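import Groth.Prelude.Def_W4c3perfectstacksMV
import Mathlib

/-!
Mayer–Vietoris squares of triangulated categories: orthogonality, and the Mayer–Vietoris triangle.
-/

universe v u

open CategoryTheory CategoryTheory.Limits CategoryTheory.Pretriangulated W4c3perfectstacks

set_option linter.unusedSectionVars false

namespace Groth.MVLib

variable {S S' R R' : Type u} [Category.{v} S] [Category.{v} S'] [Category.{v} R] [Category.{v} R']
    [Preadditive S] [Preadditive S'] [Preadditive R] [Preadditive R']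
    [HasZeroObject S] [HasZeroObject S'] [HasZeroObject R] [HasZeroObject R']
    [HasShift S ℤ] [HasShift S' ℤ] [HasShift R ℤ] [HasShift R' ℤ]
    [∀ n : ℤ, (shiftFunctor S n).Additive] [∀ n : ℤ, (shiftFunctor S' n).Additive]
    [∀ n : ℤ, (shiftFunctor R n).Additive] [∀ n : ℤ, (shiftFunctor R' n).Additive]
    [Pretriangulated S] [Pretriangulated S'] [Pretriangulated R] [Pretriangulated R']
    (q : W4c3perfectstacks.MVSq S S' R R')
    [q.jst.CommShift ℤ] [q.fst.CommShift ℤ] [q.jpst.CommShift ℤ] [q.gst.CommShift ℤ]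
    [q.jst.IsTriangulated] [q.fst.IsTriangulated] [q.jpst.IsTriangulated] [q.gst.IsTriangulated]

noncomputable instance flsCommShift : q.fls.CommShift ℤ := q.adjF.rightAdjointCommShift ℤ

instance adjFCommShift : q.adjF.CommShift ℤ := q.adjF.commShift_of_leftAdjoint ℤ

instance flsAdditive : q.fls.Additive := q.adjF.right_adjoint_additive

instance flsIsTriangulated : q.fls.IsTriangulated := q.adjF.isTriangulated_rightAdjoint

/-- `B` receives only zero maps from the objects killed by `j^*`. -/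
def Orth (B : S) : Prop := ∀ X : S, IsZero (q.jst.obj X) → ∀ f : X ⟶ B, f = 0

theorem isZero_shift {D : Type u} [Category.{v} D] [Preadditive D] [HasShift D ℤ]
    [∀ n : ℤ, (shiftFunctor D n).Additive] {X : D} (h : IsZero X) (n : ℤ) :
    IsZero ((shiftFunctor D n).obj X) :=
  Functor.map_isZero _ h

theorem isZero_jst_shift {X : S} (h : IsZero (q.jst.obj X)) (n : ℤ) :
    IsZero (q.jst.obj (X⟦n⟧)) :=
  (isZero_shift h n).of_iso ((q.jst.commShiftIso n).app X)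

theorem Orth.shift {B : S} (h : Orth q B) (n : ℤ) : Orth q (B⟦n⟧) := by
  intro X hX f
  have h1 := h _ (isZero_jst_shift q hX (-n)) (f⟦-n⟧' ≫ (shiftShiftNeg B n).hom)
  rw [← zero_comp (f := (shiftShiftNeg B n).hom), cancel_mono] at h1
  exact ((shiftFunctor S (-n)).map_eq_zero_iff).1 h1

theorem Orth.of_iso {B B' : S} (h : Orth q B) (e : B ≅ B') : Orth q B' := fun X hX f => by
  simpa using h X hX (f ≫ e.inv) =≫ e.hom

theorem orth_jls (P : R) : Orth q (q.jls.obj P) := fun X hX f =>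
  ((q.adjJ.homEquiv X P).symm).injective (hX.eq_of_src _ _)

theorem orth_fls_jpls (Q : R') : Orth q (q.fls.obj (q.jpls.obj Q)) := fun X hX f => by
  apply (q.adjF.homEquiv X _).symm.injective
  apply (q.adjJp.homEquiv (q.fst.obj X) Q).symm.injective
  exact (IsZero.of_iso (q.gst.map_isZero hX) (q.e.app X).symm).eq_of_src _ _

theorem orth_F_jls (hq : q.IsMV) (P : R) : Orth q (q.fls.obj (q.fst.obj (q.jls.obj P))) := by
  haveI := hq.isIso_bc2App P
  exact (orth_fls_jpls q (q.gst.obj P)).of_iso q (asIso (q.fls.map (q.bc2App P))).symm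

/-- The unit of `j^* ⊣ j_*`, with plain source and target. -/
abbrev aJ (N : S) : N ⟶ q.jls.obj (q.jst.obj N) := q.adjJ.unit.app N

/-- The unit of `f^* ⊣ f_*`, with plain source and target. -/
abbrev aF (N : S) : N ⟶ q.fls.obj (q.fst.obj N) := q.adjF.unit.app N

theorem aF_nat' {X Y : S} (f : X ⟶ Y) : f ≫ aF q Y = aF q X ≫ q.fls.map (q.fst.map f) :=
  q.adjF.unit.naturality f

theorem isIso_jst_map_unit (hq : q.IsMV) (N : S) : IsIso (q.jst.map (aJ q N)) := by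
  haveI := hq.isIso_counitJ
  have h : q.jst.map (aJ q N) = inv (q.adjJ.counit.app (q.jst.obj N)) :=
    IsIso.eq_inv_of_inv_hom_id (q.adjJ.left_triangle_components N)
  rw [h]
  infer_instance

theorem isZero_jst_cone (hq : q.IsMV) {N C : S} {b : q.jls.obj (q.jst.obj N) ⟶ C}
    {c : C ⟶ N⟦(1 : ℤ)⟧} (hT : Triangle.mk (aJ q N) b c ∈ distTriang S) :
    IsZero (q.jst.obj C) :=
  Triangle.isZero₃_of_isIso₁ _ (q.jst.map_distinguished _ hT) (isIso_jst_map_unit q hq N)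

theorem isZero_jst_F (hq : q.IsMV) {X : S} (hX : IsZero (q.jst.obj X)) :
    IsZero (q.jst.obj (q.fls.obj (q.fst.obj X))) :=
  haveI := hq.isIso_unitF X hX
  hX.of_iso (asIso (q.jst.map (aF q X))).symm

theorem unit_app_shift (N : S) :
    aF q (N⟦(1 : ℤ)⟧) ≫ ((q.fst ⋙ q.fls).commShiftIso (1 : ℤ)).hom.app N =
      (aF q N)⟦(1 : ℤ)⟧' := by
  have h := NatTrans.shift_app_comm q.adjF.unit (1 : ℤ) N
  rw [← h]
  simp

section Exact

variable {D : Type u} [Category.{v} D] [Preadditive D] [HasZeroObject D] [HasShift D ℤ]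
  [∀ n : ℤ, (shiftFunctor D n).Additive] [Pretriangulated D] {A B C W : D} {f : A ⟶ B}
  {g : B ⟶ C} {h : C ⟶ A⟦(1 : ℤ)⟧}

theorem yExact₂ (hT : Triangle.mk f g h ∈ distTriang D) (t : B ⟶ W) (ht : f ≫ t = 0) :
    ∃ y : C ⟶ W, t = g ≫ y :=
  Triangle.yoneda_exact₂ _ hT t ht

theorem yExact₃ (hT : Triangle.mk f g h ∈ distTriang D) (t : C ⟶ W) (ht : g ≫ t = 0) :
    ∃ y : A⟦(1 : ℤ)⟧ ⟶ W, t = h ≫ y :=
  Triangle.yoneda_exact₃ _ hT t ht

theorem yExact₁ (hT : Triangle.mk f g h ∈ distTriang D) (t : A⟦(1 : ℤ)⟧ ⟶ W) (ht : h ≫ t = 0) :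
    ∃ y : B⟦(1 : ℤ)⟧ ⟶ W, t = f⟦(1 : ℤ)⟧' ≫ y := by
  obtain ⟨y, hy⟩ := Triangle.yoneda_exact₃ _ (rot_of_distTriang _ hT) t ht
  refine ⟨-y, hy.trans ?_⟩
  show (-(f⟦(1 : ℤ)⟧')) ≫ y = _
  exact (Preadditive.neg_comp _ _).trans (Preadditive.comp_neg _ _).symm

theorem cExact₁ (hT : Triangle.mk f g h ∈ distTriang D) (t : W ⟶ A⟦(1 : ℤ)⟧)
    (ht : t ≫ f⟦(1 : ℤ)⟧' = 0) : ∃ y : W ⟶ C, t = y ≫ h :=
  Triangle.coyoneda_exact₁ _ hT t ht

theorem cExact₂ (hT : Triangle.mk f g h ∈ distTriang D) (t : W ⟶ B) (ht : t ≫ g = 0) :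
    ∃ y : W ⟶ A, t = y ≫ f :=
  Triangle.coyoneda_exact₂ _ hT t ht

theorem cExact₃ (hT : Triangle.mk f g h ∈ distTriang D) (t : W ⟶ C) (ht : t ≫ h = 0) :
    ∃ y : W ⟶ B, t = y ≫ g :=
  Triangle.coyoneda_exact₃ _ hT t ht

theorem comp₁₂ (hT : Triangle.mk f g h ∈ distTriang D) : f ≫ g = 0 :=
  comp_distTriang_mor_zero₁₂ _ hT

theorem comp₃₁ (hT : Triangle.mk f g h ∈ distTriang D) : h ≫ f⟦(1 : ℤ)⟧' = 0 :=
  comp_distTriang_mor_zero₃₁ _ hT

end Exact

/-- A cone of the unit of `j^* ⊣ j_*`, together with its image under `f_* f^*`. -/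
theorem exists_cone (hq : q.IsMV) (N : S) :
    ∃ (C : S) (b : q.jls.obj (q.jst.obj N) ⟶ C) (c : C ⟶ N⟦(1 : ℤ)⟧)
      (c' : q.fls.obj (q.fst.obj C) ⟶ (q.fls.obj (q.fst.obj N))⟦(1 : ℤ)⟧),
      Triangle.mk (aJ q N) b c ∈ distTriang S ∧
      Triangle.mk (q.fls.map (q.fst.map (aJ q N))) (q.fls.map (q.fst.map b)) c' ∈
        distTriang S ∧
      aF q C ≫ c' = c ≫ (aF q N)⟦(1 : ℤ)⟧' ∧
      IsZero (q.jst.obj C) := by
  obtain ⟨C, b, c, hT⟩ := distinguished_cocone_triangle (aJ q N)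
  refine ⟨C, b, c, q.fls.map (q.fst.map c) ≫ ((q.fst ⋙ q.fls).commShiftIso (1 : ℤ)).hom.app N,
    hT, (q.fst ⋙ q.fls).map_distinguished _ hT, ?_, isZero_jst_cone q hq hT⟩
  rw [← unit_app_shift, ← Category.assoc, ← Category.assoc]
  exact congrArg (· ≫ _) (aF_nat' q c).symm

/-- Maps out of `F A` into an orthogonal object are determined on `F N`. -/
theorem F_ext (hq : q.IsMV) (N : S) {B : S} (hB : Orth q B)
    {t t' : q.fls.obj (q.fst.obj (q.jls.obj (q.jst.obj N))) ⟶ B}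
    (h : q.fls.map (q.fst.map (aJ q N)) ≫ t =
      q.fls.map (q.fst.map (aJ q N)) ≫ t') : t = t' := by
  obtain ⟨C, b, c, c', hT, hF, -, hC⟩ := exists_cone q hq N
  obtain ⟨y, hy⟩ := yExact₂ hF (t - t') (by rw [Preadditive.comp_sub, h, sub_self])
  rw [hB _ (isZero_jst_F q hq hC) y, comp_zero, sub_eq_zero] at hy
  exact hy

/-- Shifted units are injective on maps out of objects killed by `j^*`. -/
theorem eq_zero_of_comp_unit_shift (hq : q.IsMV) {X N : S} (hX : IsZero (q.jst.obj X))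
    (h : X ⟶ N⟦(1 : ℤ)⟧) (hh : h ≫ (aF q N)⟦(1 : ℤ)⟧' = 0) : h = 0 := by
  obtain ⟨C, b, c, c', hT, hF, hc', hC⟩ := exists_cone q hq N
  obtain ⟨h', hh'⟩ := cExact₁ hT h ((orth_jls q (q.jst.obj N)).shift q 1 X hX _)
  haveI := hq.isIso_unitF C hC
  obtain ⟨w, hw⟩ := cExact₃ hF (h' ≫ aF q C) (by
    rw [Category.assoc]
    refine (congrArg (h' ≫ ·) hc').trans ?_
    rw [← Category.assoc, ← hh', hh])
  have hw0 : w = 0 := orth_F_jls q hq (q.jst.obj N) X hX w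
  rw [hw0, zero_comp, ← zero_comp (f := aF q C), cancel_mono] at hw
  rw [hh', hw, zero_comp]

/-- The first map of the Mayer–Vietoris triangle. -/
noncomputable abbrev lft (N : S) : N ⟶ q.jls.obj (q.jst.obj N) ⊞ q.fls.obj (q.fst.obj N) :=
  biprod.lift (aJ q N) (aF q N)

/-- The second map of the Mayer–Vietoris triangle. -/
noncomputable abbrev dsc (N : S) :
    q.jls.obj (q.jst.obj N) ⊞ q.fls.obj (q.fst.obj N) ⟶
      q.fls.obj (q.fst.obj (q.jls.obj (q.jst.obj N))) :=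
  biprod.desc (aF q (q.jls.obj (q.jst.obj N)))
    (-(q.fls.map (q.fst.map (aJ q N))))

theorem lft_dsc (N : S) : lft q N ≫ dsc q N = 0 := by
  rw [biprod.lift_desc, Preadditive.comp_neg, add_neg_eq_zero]
  exact aF_nat' q (aJ q N)

theorem exists_triangle (hq : q.IsMV) (N : S) :
    ∃ d : q.fls.obj (q.fst.obj (q.jls.obj (q.jst.obj N))) ⟶ N⟦(1 : ℤ)⟧,
      Triangle.mk (lft q N) (dsc q N) d ∈ distTriang S := by
  obtain ⟨Z, g, δ, hZ⟩ := distinguished_cocone_triangle (lft q N)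
  obtain ⟨φ, hφ⟩ := yExact₂ hZ (dsc q N) (lft_dsc q N)
  obtain ⟨C, b, c, c', hT, hF, hc', hC⟩ := exists_cone q hq N
  haveI := hq.isIso_unitF C hC
  set Fa := q.fls.map (q.fst.map (aJ q N))
  have hrel : aJ q N ≫ biprod.inl ≫ g + aF q N ≫ biprod.inr ≫ g = 0 := by
    have h0 : lft q N ≫ g = 0 := comp₁₂ hZ
    rw [lft, biprod.lift_eq, Preadditive.add_comp, Category.assoc, Category.assoc] at h0
    exact h0
  -- a map `ψ` with `Fa ≫ ψ = -(inr ≫ g)`
  obtain ⟨ψ, hψ⟩ : ∃ ψ : q.fls.obj (q.fst.obj (q.jls.obj (q.jst.obj N))) ⟶ Z,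
      Fa ≫ ψ = -(biprod.inr ≫ g) := by
    obtain ⟨g', hg'⟩ := yExact₁ hF ((biprod.inr ≫ g : q.fls.obj (q.fst.obj N) ⟶ Z)⟦(1 : ℤ)⟧') (by
      refine (cancel_epi (aF q C)).1 ?_
      rw [comp_zero, ← Category.assoc]
      refine (congrArg (· ≫ _) hc').trans ?_
      rw [Category.assoc, ← Functor.map_comp,
        show aF q N ≫ biprod.inr ≫ g = -(aJ q N ≫ biprod.inl ≫ g) from
          eq_neg_of_add_eq_zero_right hrel,
        Functor.map_neg, Functor.map_comp, Preadditive.comp_neg,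
        ← Category.assoc, comp₃₁ hT, zero_comp, neg_zero])
    refine ⟨-(shiftFunctor S (1 : ℤ)).preimage g', (shiftFunctor S (1 : ℤ)).map_injective ?_⟩
    rw [Functor.map_comp, Functor.map_neg, Functor.map_preimage, Functor.map_neg, hg',
      Preadditive.comp_neg]
  have hψφ : ψ ≫ φ = 𝟙 _ := by
    refine F_ext q hq N (orth_F_jls q hq _) ?_
    rw [← Category.assoc, hψ, Preadditive.neg_comp, Category.assoc, ← hφ, biprod.inr_desc,
      neg_neg, Category.comp_id]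
  -- no nonzero maps from `C` to `Z`
  have hCZ : ∀ y : C ⟶ Z, y = 0 := by
    intro y
    have hs : y ≫ δ = 0 := by
      apply eq_zero_of_comp_unit_shift q hq hC
      have h0 : δ ≫ (lft q N)⟦(1 : ℤ)⟧' = 0 := comp₃₁ hZ
      calc (y ≫ δ) ≫ (aF q N)⟦(1 : ℤ)⟧'
          = y ≫ (δ ≫ (lft q N)⟦(1 : ℤ)⟧') ≫ (biprod.snd)⟦(1 : ℤ)⟧' := by
            simp only [Category.assoc, ← Functor.map_comp, biprod.lift_snd]
        _ = 0 := by rw [h0, zero_comp, comp_zero]
    obtain ⟨m, hm⟩ := cExact₃ hZ y hs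
    have hm' : m = (m ≫ biprod.snd) ≫ biprod.inr := by
      apply biprod.hom_ext
      · simpa using orth_jls q _ C hC (m ≫ biprod.fst)
      · simp
    rw [hm, hm', Category.assoc, show biprod.inr ≫ g = -(Fa ≫ ψ) by rw [hψ, neg_neg],
      Preadditive.comp_neg, ← Category.assoc,
      orth_F_jls q hq _ C hC ((m ≫ biprod.snd) ≫ Fa), zero_comp, neg_zero]
  have hgψ : dsc q N ≫ ψ = g := by
    apply biprod.hom_ext'
    · rw [biprod.inl_desc_assoc]
      obtain ⟨y, hy⟩ := yExact₂ hT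
        (aF q (q.jls.obj (q.jst.obj N)) ≫ ψ - biprod.inl ≫ g) (by
          rw [Preadditive.comp_sub, ← Category.assoc,
            show aJ q N ≫ aF q (q.jls.obj (q.jst.obj N)) =
              aF q N ≫ Fa from aF_nat' q (aJ q N),
            Category.assoc, hψ, Preadditive.comp_neg, sub_eq_zero]
          exact (eq_neg_of_add_eq_zero_left hrel).symm)
      rw [hCZ y, comp_zero, sub_eq_zero] at hy
      exact hy
    · rw [biprod.inr_desc_assoc, Preadditive.neg_comp, hψ, neg_neg]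
  have hφψ : φ ≫ ψ = 𝟙 Z := by
    have h1 : g ≫ (φ ≫ ψ - 𝟙 Z) = 0 := by
      rw [Preadditive.comp_sub, ← Category.assoc, ← hφ, hgψ, Category.comp_id, sub_self]
    obtain ⟨y, hy⟩ := yExact₃ hZ _ h1
    set e := φ ≫ ψ - 𝟙 Z
    have h2 : e ≫ e = -e := by
      simp only [e, Preadditive.sub_comp, Preadditive.comp_sub, Category.assoc,
        reassoc_of% hψφ, Category.comp_id, Category.id_comp]
      abel
    have h3 : (e ≫ δ) ≫ (aJ q N)⟦(1 : ℤ)⟧' = 0 := by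
      have h0 : δ ≫ (lft q N)⟦(1 : ℤ)⟧' = 0 := comp₃₁ hZ
      calc (e ≫ δ) ≫ (aJ q N)⟦(1 : ℤ)⟧'
          = e ≫ (δ ≫ (lft q N)⟦(1 : ℤ)⟧') ≫ (biprod.fst)⟦(1 : ℤ)⟧' := by
            simp only [Category.assoc, ← Functor.map_comp, biprod.lift_fst]
        _ = 0 := by rw [h0, zero_comp, comp_zero]
    obtain ⟨h', hh'⟩ := cExact₁ hT _ h3
    have h4 : e ≫ e = 0 := by
      conv_lhs => arg 2; rw [hy]
      rw [← Category.assoc, hh', Category.assoc, hCZ (c ≫ y), comp_zero]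
    rw [← sub_eq_zero]
    exact neg_eq_zero.1 (h2.symm.trans h4)
  refine ⟨ψ ≫ δ, isomorphic_distinguished _ hZ _ (Triangle.isoMk _ _ (Iso.refl _) (Iso.refl _)
    ⟨ψ, φ, hψφ, hφψ⟩ ?_ ?_ ?_)⟩
  · exact (Category.comp_id _).trans (Category.id_comp _).symm
  · exact hgψ.trans (Category.id_comp g).symm
  · show (ψ ≫ δ) ≫ (𝟙 N : N ⟶ N)⟦(1 : ℤ)⟧' = ψ ≫ δ
    rw [CategoryTheory.Functor.map_id, Category.comp_id]

/-- A morphism out of the third term of the triangle is determined by the second map. -/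
theorem dsc_ext (hq : q.IsMV) (N : S) {B : S} (hB : Orth q B)
    {t t' : q.fls.obj (q.fst.obj (q.jls.obj (q.jst.obj N))) ⟶ B}
    (h : dsc q N ≫ t = dsc q N ≫ t') : t = t' := by
  refine F_ext q hq N hB ?_
  have h1 := biprod.inr ≫= h
  rw [dsc, biprod.inr_desc_assoc, biprod.inr_desc_assoc, Preadditive.neg_comp, Preadditive.neg_comp,
    neg_inj] at h1
  exact h1

theorem natural (hq : q.IsMV) {N₁ N₂ : S} (φ : N₁ ⟶ N₂)
    {d₁ : q.fls.obj (q.fst.obj (q.jls.obj (q.jst.obj N₁))) ⟶ N₁⟦(1 : ℤ)⟧}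
    {d₂ : q.fls.obj (q.fst.obj (q.jls.obj (q.jst.obj N₂))) ⟶ N₂⟦(1 : ℤ)⟧}
    (h₁ : Triangle.mk (lft q N₁) (dsc q N₁) d₁ ∈ distTriang S)
    (h₂ : Triangle.mk (lft q N₂) (dsc q N₂) d₂ ∈ distTriang S) :
    d₁ ≫ (shiftFunctor S (1 : ℤ)).map φ =
      q.fls.map (q.fst.map (q.jls.map (q.jst.map φ))) ≫ d₂ := by
  set θ := q.fls.map (q.fst.map (q.jls.map (q.jst.map φ))) with hθ
  have hJ : φ ≫ aJ q N₂ = aJ q N₁ ≫ q.jls.map (q.jst.map φ) := q.adjJ.unit.naturality φ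
  let m := biprod.map (q.jls.map (q.jst.map φ)) (q.fls.map (q.fst.map φ))
  have hl : lft q N₁ ≫ m = φ ≫ lft q N₂ := by
    apply biprod.hom_ext
    · simp only [m, lft, Category.assoc, biprod.map_fst, biprod.lift_fst, biprod.lift_fst_assoc, hJ]
    · simp only [m, lft, Category.assoc, biprod.map_snd, biprod.lift_snd, biprod.lift_snd_assoc,
        aF_nat']
  obtain ⟨t, ht₂, ht₃⟩ : ∃ t : q.fls.obj (q.fst.obj (q.jls.obj (q.jst.obj N₁))) ⟶
      q.fls.obj (q.fst.obj (q.jls.obj (q.jst.obj N₂))),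
      dsc q N₁ ≫ t = m ≫ dsc q N₂ ∧ d₁ ≫ (shiftFunctor S (1 : ℤ)).map φ = t ≫ d₂ :=
    complete_distinguished_triangle_morphism _ _ h₁ h₂ φ m hl
  have ht : t = θ := by
    refine dsc_ext q hq N₁ (orth_F_jls q hq _) (ht₂.trans ?_)
    apply biprod.hom_ext'
    · simp only [m, dsc, hθ, biprod.inl_map_assoc, biprod.inl_desc, biprod.inl_desc_assoc]
      exact aF_nat' q (q.jls.map (q.jst.map φ))
    · simp only [m, dsc, hθ, biprod.inr_map_assoc, biprod.inr_desc, biprod.inr_desc_assoc,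
        Preadditive.comp_neg, Preadditive.neg_comp, ← Functor.map_comp, hJ]
  rw [← ht]
  exact ht₃

theorem existsUnique_triangle (hq : q.IsMV) (N : S) :
    ∃! d : q.fls.obj (q.fst.obj (q.jls.obj (q.jst.obj N))) ⟶ N⟦(1 : ℤ)⟧,
      Triangle.mk (lft q N) (dsc q N) d ∈ distTriang S := by
  obtain ⟨d, hd⟩ := exists_triangle q hq N
  refine ⟨d, hd, fun d' hd' => ?_⟩
  simpa using natural q hq (𝟙 N) hd' hd

/-- `f^*` is bijective on maps out of `f_* M` when `M` is killed by `j'^*`. -/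
theorem orth_bijective (hq : q.IsMV) {X : S} (hX : IsZero (q.jst.obj X)) (N : S) :
    Function.Bijective (fun g : X ⟶ N => g ≫ aF q N) := by
  obtain ⟨d, hd⟩ := exists_triangle q hq N
  refine ⟨fun g g' h => ?_, fun u => ?_⟩
  · have h1 : (g - g') ≫ lft q N = 0 := by
      apply biprod.hom_ext
      · simpa using orth_jls q _ X hX ((g - g') ≫ aJ q N)
      · simpa [sub_eq_zero] using h
    have h2 : (g - g')⟦(1 : ℤ)⟧' ≫ (lft q N)⟦(1 : ℤ)⟧' = 0 := by
      rw [← Functor.map_comp, h1, Functor.map_zero]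
    obtain ⟨w, hw⟩ := cExact₁ hd _ h2
    rw [orth_F_jls q hq _ (X⟦(1 : ℤ)⟧) (isZero_jst_shift q hX 1) w, zero_comp] at hw
    exact sub_eq_zero.1 ((shiftFunctor S (1 : ℤ)).map_eq_zero_iff.1 hw)
  · obtain ⟨g, hg⟩ := cExact₂ hd (biprod.lift 0 u : X ⟶ _) (orth_F_jls q hq _ X hX _)
    refine ⟨g, ?_⟩
    simpa using (hg =≫ biprod.snd).symm

end Groth.MVLib
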