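import Groth.Prelude.Def_CohDer
import Groth.Agent.MVLib.Basic
import Mathlib

/-!
"Compactness along a family of maps" `e i : Y i ⟶ Y₀`, its transfer along isomorphisms, adjunctions
and the five lemma for triangles.
-/

universe v u w

open CategoryTheory CategoryTheory.Limits CategoryTheory.Pretriangulated

namespace Groth.MVLib

variable {D : Type u} [Category.{v} D] [Preadditive D] {ι : Type v}

open scoped Classical in
/-- The sum map `⊕ᵢ Hom(K, Y i) → Hom(K, Y₀)` of a family `e i : Y i ⟶ Y₀`. -/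
noncomputable def cmp (K : D) {Y : ι → D} {Y₀ : D} (e : ∀ i, Y i ⟶ Y₀) :
    DirectSum ι (fun i => K ⟶ Y i) →+ (K ⟶ Y₀) :=
  DirectSum.toAddMonoid fun i => Preadditive.rightComp K (e i)

open scoped Classical in
theorem cmp_of (K : D) {Y : ι → D} {Y₀ : D} (e : ∀ i, Y i ⟶ Y₀) (i : ι) (f : K ⟶ Y i) :
    cmp K e (DirectSum.of _ i f) = f ≫ e i := by
  simp [cmp, Preadditive.rightComp]

/-- `K` is compact along the family `e`. -/
def Cpt (K : D) {Y : ι → D} {Y₀ : D} (e : ∀ i, Y i ⟶ Y₀) : Prop :=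
  Function.Bijective (cmp K e)

open scoped Classical in
theorem cmp_map {D' : Type w} [Category.{v} D'] [Preadditive D'] {K : D} {K' : D'} {Y : ι → D}
    {Y₀ : D} {Y' : ι → D'} {Y₀' : D'} (e : ∀ i, Y i ⟶ Y₀) (e' : ∀ i, Y' i ⟶ Y₀')
    (φ : ∀ i, (K ⟶ Y i) →+ (K' ⟶ Y' i)) (φ₀ : (K ⟶ Y₀) →+ (K' ⟶ Y₀'))
    (h : ∀ i f, φ i f ≫ e' i = φ₀ (f ≫ e i)) (x : DirectSum ι (fun i => K ⟶ Y i)) :
    cmp K' e' (DirectSum.map φ x) = φ₀ (cmp K e x) := by
  induction x using DirectSum.induction_on with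
  | zero => simp
  | of i f => rw [DirectSum.map_of, cmp_of, cmp_of, h]
  | add x y hx hy => simp only [map_add, hx, hy]

theorem Cpt.transfer {D' : Type w} [Category.{v} D'] [Preadditive D'] {K : D} {K' : D'}
    {Y : ι → D} {Y₀ : D} {Y' : ι → D'} {Y₀' : D'} {e : ∀ i, Y i ⟶ Y₀} {e' : ∀ i, Y' i ⟶ Y₀'}
    (φ : ∀ i, (K ⟶ Y i) →+ (K' ⟶ Y' i)) (φ₀ : (K ⟶ Y₀) →+ (K' ⟶ Y₀'))
    (hφ : ∀ i, Function.Bijective (φ i)) (hφ₀ : Function.Bijective φ₀)
    (h : ∀ i f, φ i f ≫ e' i = φ₀ (f ≫ e i)) (hK : Cpt K e) : Cpt K' e' := by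
  have hb : Function.Bijective (DirectSum.map φ) := by
    constructor
    · exact (DirectSum.map_injective φ).2 fun i => (hφ i).1
    · exact (DirectSum.map_surjective φ).2 fun i => (hφ i).2
  have h1 : Function.Bijective (cmp K' e' ∘ DirectSum.map φ) := by
    have : cmp K' e' ∘ DirectSum.map φ = φ₀ ∘ cmp K e := funext fun x => cmp_map e e' φ φ₀ h x
    rw [this]
    exact hφ₀.comp hK
  exact (Function.Bijective.of_comp_iff _ hb).1 h1

theorem bijective_rightComp (K : D) {A B : D} (f : A ⟶ B) [IsIso f] :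
    Function.Bijective (Preadditive.rightComp K f) := by
  exact ⟨fun a b h => (cancel_mono f).1 h, fun b => ⟨b ≫ inv f, by simp [Preadditive.rightComp]⟩⟩

theorem bijective_leftComp (P : D) {A B : D} (f : A ⟶ B) [IsIso f] :
    Function.Bijective (Preadditive.leftComp P f) := by
  exact ⟨fun a b h => (cancel_epi f).1 h, fun b => ⟨inv f ≫ b, by simp [Preadditive.leftComp]⟩⟩

theorem Cpt.of_iso {K : D} {Y Y' : ι → D} {Y₀ Y₀' : D} {e : ∀ i, Y i ⟶ Y₀}
    {e' : ∀ i, Y' i ⟶ Y₀'} (hK : Cpt K e) (α : ∀ i, Y i ≅ Y' i) (α₀ : Y₀ ≅ Y₀')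
    (h : ∀ i, (α i).hom ≫ e' i = e i ≫ α₀.hom) : Cpt K e' :=
  hK.transfer (fun i => Preadditive.rightComp K (α i).hom) (Preadditive.rightComp K α₀.hom)
    (fun i => bijective_rightComp K _) (bijective_rightComp K _)
    (fun i f => by simp [Preadditive.rightComp, h])

theorem Cpt.of_iso_left {K K' : D} (α : K ≅ K') {Y : ι → D} {Y₀ : D} {e : ∀ i, Y i ⟶ Y₀}
    (hK : Cpt K e) : Cpt K' e :=
  hK.transfer (fun i => Preadditive.leftComp (Y i) α.inv) (Preadditive.leftComp Y₀ α.inv)
    (fun i => bijective_leftComp _ _) (bijective_leftComp _ _)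
    (fun i f => by simp [Preadditive.leftComp])

theorem Cpt.adj {D' : Type w} [Category.{v} D'] [Preadditive D'] {L : D' ⥤ D} {R : D ⥤ D'}
    (adj : L ⊣ R) [L.Additive] {K : D'} {Y : ι → D} {Y₀ : D} {e : ∀ i, Y i ⟶ Y₀}
    (hK : Cpt (L.obj K) e) : Cpt K (fun i => R.map (e i)) :=
  hK.transfer (fun i => (adj.homAddEquiv K (Y i)).toAddMonoidHom)
    (adj.homAddEquiv K Y₀).toAddMonoidHom
    (fun i => (adj.homAddEquiv K (Y i)).bijective) (adj.homAddEquiv K Y₀).bijective
    (fun i f => by simp [Adjunction.homAddEquiv, Adjunction.homEquiv_naturality_right])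

theorem cpt_of_isCompactObject [HasCoproducts.{v} D] {K : D} (hK : CohDer.IsCompactObject K)
    (Z : ι → D) : Cpt K (Sigma.ι Z) := by
  have h : cmp K (Sigma.ι Z) = CohDer.homSumToHomCoprod K Z := by
    classical
    refine DirectSum.addHom_ext fun i f => ?_
    rw [cmp_of]
    simp [CohDer.homSumToHomCoprod, Preadditive.rightComp]
  rw [Cpt, h]
  exact hK ι Z

/-- A compact object is compact along the image of a coproduct under a functor preserving it. -/
theorem cpt_map_sigma {C : Type w} [Category.{v} C] [HasCoproducts.{v} C] [HasCoproducts.{v} D]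
    {K : D} (hK : CohDer.IsCompactObject K) (L : C ⥤ D)
    [PreservesColimitsOfShape (Discrete ι) L] (X : ι → C) :
    Cpt K (fun i => L.map (Sigma.ι X i)) :=
  (cpt_of_isCompactObject hK fun i => L.obj (X i)).of_iso (fun i => Iso.refl _)
    (PreservesCoproduct.iso L X).symm (fun i => by simp)

section Triangle

variable [HasZeroObject D] [HasShift D ℤ] [∀ n : ℤ, (shiftFunctor D n).Additive]
  [Pretriangulated D]

theorem Cpt.biprod {K : D} {A B : ι → D} {A₀ B₀ : D} {a : ∀ i, A i ⟶ A₀} {b : ∀ i, B i ⟶ B₀}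
    (ha : Cpt K a) (hb : Cpt K b) : Cpt K (fun i => biprod.map (a i) (b i)) := by
  classical
  constructor
  · rw [injective_iff_map_eq_zero]
    intro x hx
    have h1 : DirectSum.map (fun i => Preadditive.rightComp K
        (biprod.fst : A i ⊞ B i ⟶ A i)) x = 0 := by
      apply ha.1
      rw [cmp_map (fun i => biprod.map (a i) (b i)) a _ (Preadditive.rightComp K (biprod.fst : A₀ ⊞ B₀ ⟶ A₀))
        (fun i f => by simp [Preadditive.rightComp]) x, hx]
      simp
    have h2 : DirectSum.map (fun i => Preadditive.rightComp K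
        (biprod.snd : A i ⊞ B i ⟶ B i)) x = 0 := by
      apply hb.1
      rw [cmp_map (fun i => biprod.map (a i) (b i)) b _ (Preadditive.rightComp K (biprod.snd : A₀ ⊞ B₀ ⟶ B₀))
        (fun i f => by simp [Preadditive.rightComp]) x, hx]
      simp
    refine DFinsupp.ext fun i => ?_
    have e1 := DFunLike.congr_fun h1 i
    have e2 := DFunLike.congr_fun h2 i
    rw [DirectSum.map_apply, DirectSum.zero_apply] at e1 e2
    apply biprod.hom_ext
    · simpa [Preadditive.rightComp] using e1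
    · simpa [Preadditive.rightComp] using e2
  · intro f
    obtain ⟨u, hu⟩ := ha.2 (f ≫ biprod.fst)
    obtain ⟨w, hw⟩ := hb.2 (f ≫ biprod.snd)
    refine ⟨DirectSum.map (fun i => Preadditive.rightComp K (biprod.inl : A i ⟶ A i ⊞ B i)) u +
      DirectSum.map (fun i => Preadditive.rightComp K (biprod.inr : B i ⟶ A i ⊞ B i)) w, ?_⟩
    rw [map_add,
      cmp_map a _ _ (Preadditive.rightComp K (biprod.inl : A₀ ⟶ A₀ ⊞ B₀))
        (fun i f => by simp [Preadditive.rightComp]) u,
      cmp_map b _ _ (Preadditive.rightComp K (biprod.inr : B₀ ⟶ A₀ ⊞ B₀))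
        (fun i f => by simp [Preadditive.rightComp]) w, hu, hw]
    apply biprod.hom_ext <;> simp [Preadditive.rightComp]

/-- The five lemma for compactness along the maps of a family of triangles. -/
theorem Cpt.five {N : D} {X M B : ι → D} {X₀ M₀ B₀ : D}
    {e : ∀ i, X i ⟶ X₀} {eM : ∀ i, M i ⟶ M₀} {eB : ∀ i, B i ⟶ B₀}
    {f : ∀ i, X i ⟶ M i} {g : ∀ i, M i ⟶ B i} {h : ∀ i, B i ⟶ (X i)⟦(1 : ℤ)⟧}
    {f₀ : X₀ ⟶ M₀} {g₀ : M₀ ⟶ B₀} {h₀ : B₀ ⟶ X₀⟦(1 : ℤ)⟧}
    (hT : ∀ i, Triangle.mk (f i) (g i) (h i) ∈ distTriang D)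
    (hT₀ : Triangle.mk f₀ g₀ h₀ ∈ distTriang D)
    (c₁ : ∀ i, f i ≫ eM i = e i ≫ f₀) (c₂ : ∀ i, g i ≫ eB i = eM i ≫ g₀)
    (c₃ : ∀ i, h i ≫ (e i)⟦(1 : ℤ)⟧' = eB i ≫ h₀)
    (hM : Cpt N eM) (hM' : Cpt (N⟦(1 : ℤ)⟧) eM) (hB : Cpt N eB) (hB' : Cpt (N⟦(1 : ℤ)⟧) eB) :
    Cpt N e := by
  classical
  let N' := N⟦(1 : ℤ)⟧
  constructor
  · rw [injective_iff_map_eq_zero]
    intro x hx
    have h1 : DirectSum.map (fun i => Preadditive.rightComp N (f i)) x = 0 := by
      apply hM.1
      rw [cmp_map e eM _ (Preadditive.rightComp N f₀)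
        (fun i u => by simp [Preadditive.rightComp, c₁]) x, hx]
      simp
    have h2 : ∀ i, ∃ w : N' ⟶ B i, (x i)⟦(1 : ℤ)⟧' = w ≫ h i := fun i => by
      refine cExact₁ (hT i) _ ?_
      have := DFunLike.congr_fun h1 i
      rw [DirectSum.map_apply, DirectSum.zero_apply] at this
      rw [← Functor.map_comp]
      change (shiftFunctor D (1 : ℤ)).map (x i ≫ f i) = 0
      rw [show x i ≫ f i = 0 from this, Functor.map_zero]
    choose w hw using h2
    let W : DirectSum ι (fun i => N' ⟶ B i) := DFinsupp.mk x.support fun i => w i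
    have hW : DirectSum.map (fun i => Preadditive.rightComp N' (h i)) W =
        DirectSum.map (fun i => (shiftFunctor D (1 : ℤ)).mapAddHom (X := N) (Y := X i)) x := by
      refine DFinsupp.ext fun i => ?_
      rw [DirectSum.map_apply, DirectSum.map_apply]
      rw [show W i = _ from DFinsupp.mk_apply]
      split_ifs with hi
      · exact (hw i).symm
      · rw [DFinsupp.notMem_support_iff.1 hi, map_zero, map_zero]
    have hW0 : cmp N' eB W ≫ h₀ = 0 := by
      have h3 := cmp_map eB (fun i => (e i)⟦(1 : ℤ)⟧') (fun i => Preadditive.rightComp N' (h i))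
        (Preadditive.rightComp N' h₀) (fun i u => by simp [Preadditive.rightComp, c₃]) W
      rw [hW, cmp_map e (fun i => (e i)⟦(1 : ℤ)⟧') _
        ((shiftFunctor D (1 : ℤ)).mapAddHom (X := N) (Y := X₀))
        (fun i u => ((shiftFunctor D (1 : ℤ)).map_comp u (e i)).symm) x, hx, map_zero] at h3
      simpa [Preadditive.rightComp] using h3.symm
    obtain ⟨m, hm⟩ : ∃ m : N' ⟶ M₀, cmp N' eB W = m ≫ g₀ :=
      cExact₃ hT₀ _ hW0
    obtain ⟨μ, hμ⟩ := hM'.2 m
    have hWμ : W = DirectSum.map (fun i => Preadditive.rightComp N' (g i)) μ := by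
      apply hB'.1
      rw [cmp_map eM eB _ (Preadditive.rightComp N' g₀)
        (fun i u => by simp [Preadditive.rightComp, c₂]) μ, hμ, hm]
      rfl
    refine DFinsupp.ext fun i => ?_
    apply (shiftFunctor D (1 : ℤ)).map_injective
    have h4 := DFunLike.congr_fun hW i
    rw [hWμ, DirectSum.map_apply, DirectSum.map_apply, DirectSum.map_apply] at h4
    refine (h4.symm.trans ?_).trans (Functor.map_zero _ _ _).symm
    show (μ i ≫ g i) ≫ h i = 0
    rw [Category.assoc, show g i ≫ h i = 0 from comp_distTriang_mor_zero₂₃ _ (hT i), comp_zero]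
  · intro F
    obtain ⟨U, hU⟩ := hM.2 (F ≫ f₀)
    have h1 : DirectSum.map (fun i => Preadditive.rightComp N (g i)) U = 0 := by
      apply hB.1
      rw [cmp_map eM eB _ (Preadditive.rightComp N g₀)
        (fun i u => by simp [Preadditive.rightComp, c₂]) U, hU]
      simp [Preadditive.rightComp,
        comp₁₂ hT₀]
    have h2 : ∀ i, ∃ x : N ⟶ X i, U i = x ≫ f i := fun i => by
      refine cExact₂ (hT i) _ ?_
      have := DFunLike.congr_fun h1 i
      rw [DirectSum.map_apply, DirectSum.zero_apply] at this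
      exact this
    choose x hx using h2
    let P : DirectSum ι (fun i => N ⟶ X i) := DFinsupp.mk U.support fun i => x i
    have hP : DirectSum.map (fun i => Preadditive.rightComp N (f i)) P = U := by
      refine DFinsupp.ext fun i => ?_
      rw [DirectSum.map_apply]
      rw [show P i = _ from DFinsupp.mk_apply]
      split_ifs with hi
      · exact (hx i).symm
      · rw [DFinsupp.notMem_support_iff.1 hi, map_zero]
    have h3 : (F - cmp N e P) ≫ f₀ = 0 := by
      have h4 := cmp_map e eM (fun i => Preadditive.rightComp N (f i)) (Preadditive.rightComp N f₀)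
        (fun i u => by simp [Preadditive.rightComp, c₁]) P
      rw [hP, hU] at h4
      rw [Preadditive.sub_comp, sub_eq_zero]
      exact h4
    obtain ⟨w, hw⟩ : ∃ w : N' ⟶ B₀, (F - cmp N e P)⟦(1 : ℤ)⟧' = w ≫ h₀ :=
      cExact₁ hT₀ _ (by
        rw [← Functor.map_comp]
        change (shiftFunctor D (1 : ℤ)).map ((F - cmp N e P) ≫ f₀) = 0
        rw [h3, Functor.map_zero])
    obtain ⟨W, hW⟩ := hB'.2 w
    have hψ : ∀ i, Function.Bijective
        ((shiftFunctor D (1 : ℤ)).mapAddHom (X := N) (Y := X i)) := fun i =>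
      ⟨(shiftFunctor D (1 : ℤ)).map_injective, (shiftFunctor D (1 : ℤ)).map_surjective⟩
    obtain ⟨V, hV⟩ := (DirectSum.map_surjective
      (fun i => (shiftFunctor D (1 : ℤ)).mapAddHom (X := N) (Y := X i))).2 (fun i => (hψ i).2)
      (DirectSum.map (fun i => Preadditive.rightComp N' (h i)) W)
    refine ⟨P + V, ?_⟩
    rw [map_add, add_comm, ← eq_sub_iff_add_eq]
    apply (shiftFunctor D (1 : ℤ)).map_injective
    have h5 := cmp_map e (fun i => (e i)⟦(1 : ℤ)⟧')
      (fun i => (shiftFunctor D (1 : ℤ)).mapAddHom (X := N) (Y := X i))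
      ((shiftFunctor D (1 : ℤ)).mapAddHom (X := N) (Y := X₀))
      (fun i u => ((shiftFunctor D (1 : ℤ)).map_comp u (e i)).symm) V
    rw [hV, cmp_map eB _ _ (Preadditive.rightComp N' h₀)
      (fun i u => by simp [Preadditive.rightComp, c₃]) W, hW] at h5
    exact h5.symm.trans hw.symm

end Triangle

end Groth.MVLib
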