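import Groth.Agent.MVLib.Basic
import Groth.Agent.MVLib.Cpt

/-!
Compactness is local on a Mayer–Vietoris square.
-/

universe v u

open CategoryTheory CategoryTheory.Limits CategoryTheory.Pretriangulated W4c3perfectstacks

set_option linter.unusedSectionVars false
set_option linter.style.haveILetI false

namespace Groth.MVLib

section Shift

variable {D : Type u} [Category.{v} D] [Preadditive D] [HasCoproducts.{v} D]

theorem isCompactObject_of_cpt {K : D}
    (h : ∀ (ι : Type v) (Z : ι → D), Cpt K (Sigma.ι Z)) : CohDer.IsCompactObject K := by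
  intro ι Z
  have h' : cmp K (Sigma.ι Z) = CohDer.homSumToHomCoprod K Z := by
    classical
    refine DirectSum.addHom_ext fun i f => ?_
    rw [cmp_of]
    simp [CohDer.homSumToHomCoprod, Preadditive.rightComp]
  rw [← h']
  exact h ι Z

theorem isCompactObject_of_iso {K K' : D} (hK : CohDer.IsCompactObject K) (α : K ≅ K') :
    CohDer.IsCompactObject K' :=
  isCompactObject_of_cpt fun _ Z => (cpt_of_isCompactObject hK Z).of_iso_left α

theorem isCompactObject_shift [HasShift D ℤ] [∀ n : ℤ, (shiftFunctor D n).Additive] {K : D}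
    (hK : CohDer.IsCompactObject K) : CohDer.IsCompactObject (K⟦(1 : ℤ)⟧) := by
  refine isCompactObject_of_cpt fun ι Z => ?_
  let E := shiftEquiv D (1 : ℤ)
  have h : Cpt K (fun i => E.inverse.map (Sigma.ι Z i)) := cpt_map_sigma hK E.inverse Z
  haveI : E.functor.Additive := inferInstanceAs (shiftFunctor D (1 : ℤ)).Additive
  exact h.transfer (fun i => (E.toAdjunction.homAddEquiv K (Z i)).symm.toAddMonoidHom)
    (E.toAdjunction.homAddEquiv K (∐ Z)).symm.toAddMonoidHom
    (fun i => (E.toAdjunction.homAddEquiv K (Z i)).symm.bijective)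
    (E.toAdjunction.homAddEquiv K (∐ Z)).symm.bijective
    (fun i f => (E.toAdjunction.homEquiv_naturality_right_symm f (Sigma.ι Z i)).symm)

end Shift

variable {S S' R R' : Type u} [Category.{v} S] [Category.{v} S'] [Category.{v} R] [Category.{v} R']
    [Preadditive S] [Preadditive S'] [Preadditive R] [Preadditive R']
    [HasZeroObject S] [HasZeroObject S'] [HasZeroObject R] [HasZeroObject R']
    [HasShift S ℤ] [HasShift S' ℤ] [HasShift R ℤ] [HasShift R' ℤ]
    [∀ n : ℤ, (shiftFunctor S n).Additive] [∀ n : ℤ, (shiftFunctor S' n).Additive]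
    [∀ n : ℤ, (shiftFunctor R n).Additive] [∀ n : ℤ, (shiftFunctor R' n).Additive]
    [Pretriangulated S] [Pretriangulated S'] [Pretriangulated R] [Pretriangulated R']
    (q : W4c3perfectstacks.MVSq S S' R R')
    [q.jst.CommShift ℤ] [q.fst.CommShift ℤ] [q.jpst.CommShift ℤ] [q.gst.CommShift ℤ]
    [q.jst.IsTriangulated] [q.fst.IsTriangulated] [q.jpst.IsTriangulated] [q.gst.IsTriangulated]

theorem bc2App_naturality {P P' : R} (f : P ⟶ P') :
    q.fst.map (q.jls.map f) ≫ q.bc2App P' = q.bc2App P ≫ q.jpls.map (q.gst.map f) := by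
  rw [MVSq.bc2App, MVSq.bc2App, ← Category.assoc (q.fst.map (q.jls.map f)),
    show q.fst.map (q.jls.map f) ≫ q.adjJp.unit.app _ = q.adjJp.unit.app _ ≫
      q.jpls.map (q.jpst.map (q.fst.map (q.jls.map f))) from q.adjJp.unit.naturality _]
  simp only [Category.assoc, ← Functor.map_comp]
  congr 2
  have := q.e.inv.naturality (q.jls.map f)
  simp only [Functor.comp_map] at this
  rw [reassoc_of% this, ← Functor.map_comp, Adjunction.counit_naturality]

theorem isCompactObject_of_pullbacks (hq : q.IsMV)
    [HasCoproducts.{v} S] [HasCoproducts.{v} S'] [HasCoproducts.{v} R] [HasCoproducts.{v} R']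
    (N : S) (hU : CohDer.IsCompactObject (q.jst.obj N))
    (hX' : CohDer.IsCompactObject (q.fst.obj N))
    (hU' : CohDer.IsCompactObject (q.gst.obj (q.jst.obj N))) :
    CohDer.IsCompactObject N := by
  refine isCompactObject_of_cpt fun ι X => ?_
  haveI : PreservesColimitsOfShape (Discrete ι) q.jst := 
    (q.adjJ.leftAdjoint_preservesColimits).preservesColimitsOfShape
  haveI : PreservesColimitsOfShape (Discrete ι) q.fst :=
    (q.adjF.leftAdjoint_preservesColimits).preservesColimitsOfShape
  haveI : PreservesColimitsOfShape (Discrete ι) (q.jst ⋙ q.gst) :=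
    ((q.adjJ.comp q.adjG).leftAdjoint_preservesColimits).preservesColimitsOfShape
  have key : ∀ K : S, CohDer.IsCompactObject (q.jst.obj K) →
      CohDer.IsCompactObject (q.fst.obj K) → CohDer.IsCompactObject (q.gst.obj (q.jst.obj K)) →
      Cpt K (fun i => biprod.map (q.jls.map (q.jst.map (Sigma.ι X i)))
        (q.fls.map (q.fst.map (Sigma.ι X i)))) ∧
      Cpt K (fun i => q.fls.map (q.fst.map (q.jls.map (q.jst.map (Sigma.ι X i))))) := by
    intro K h₁ h₂ h₃
    refine ⟨((cpt_map_sigma h₁ q.jst X).adj q.adjJ).biprod ((cpt_map_sigma h₂ q.fst X).adj q.adjF),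
      ?_⟩
    have h4 := (((cpt_map_sigma h₃ (q.jst ⋙ q.gst) X).of_iso_left (q.e.app K)).adj q.adjJp).adj
      q.adjF
    haveI := fun P => hq.isIso_bc2App P
    refine h4.of_iso (fun i => (asIso (q.fls.map (q.bc2App (q.jst.obj (X i))))).symm)
      (asIso (q.fls.map (q.bc2App (q.jst.obj (∐ X))))).symm (fun i => ?_)
    simp only [Iso.symm_hom, asIso_inv, IsIso.inv_comp_eq, Functor.comp_map]
    rw [← Category.assoc, IsIso.eq_comp_inv, ← Functor.map_comp, ← Functor.map_comp,
      bc2App_naturality]
  obtain ⟨hM, hB⟩ := key N hU hX' hU'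
  obtain ⟨hM', hB'⟩ := key (N⟦(1 : ℤ)⟧)
    (isCompactObject_of_iso (isCompactObject_shift hU) ((q.jst.commShiftIso (1 : ℤ)).app N).symm)
    (isCompactObject_of_iso (isCompactObject_shift hX') ((q.fst.commShiftIso (1 : ℤ)).app N).symm)
    (isCompactObject_of_iso (isCompactObject_shift hU')
      (((q.jst ⋙ q.gst).commShiftIso (1 : ℤ)).app N).symm)
  choose d hd using fun i => exists_triangle q hq (X i)
  obtain ⟨d₀, hd₀⟩ := exists_triangle q hq (∐ X)
  refine Cpt.five hd hd₀ (fun i => ?_) (fun i => ?_)
    (fun i => natural q hq (Sigma.ι X i) (hd i) hd₀) hM hM' hB hB'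
  · apply biprod.hom_ext
    · simp only [lft, Category.assoc, biprod.map_fst, biprod.lift_fst, biprod.lift_fst_assoc]
      exact (q.adjJ.unit.naturality (Sigma.ι X i)).symm
    · simp only [lft, Category.assoc, biprod.map_snd, biprod.lift_snd, biprod.lift_snd_assoc]
      exact (aF_nat' q (Sigma.ι X i)).symm
  · apply biprod.hom_ext'
    · simp only [dsc, biprod.inl_map_assoc, biprod.inl_desc, biprod.inl_desc_assoc]
      exact (aF_nat' q (q.jls.map (q.jst.map (Sigma.ι X i)))).symm
    · simp only [dsc, biprod.inr_map_assoc, biprod.inr_desc, biprod.inr_desc_assoc,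
        Preadditive.comp_neg, Preadditive.neg_comp, neg_inj, ← Functor.map_comp]
      exact congrArg (fun t => q.fls.map (q.fst.map t))
        (q.adjJ.unit.naturality (Sigma.ι X i)).symm

end Groth.MVLib
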