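import Groth.Agent.MVLib.Basic

/-!
Glueing along a Mayer–Vietoris square of triangulated categories.
-/

universe v u

open CategoryTheory CategoryTheory.Limits CategoryTheory.Pretriangulated W4c3perfectstacks

set_option linter.unusedSectionVars false
set_option linter.style.haveILetI false

namespace Groth.MVLib

variable {S S' R R' : Type u} [Category.{v} S] [Category.{v} S'] [Category.{v} R] [Category.{v} R']
    [Preadditive S] [Preadditive S'] [Preadditive R] [Preadditive R']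
    [HasZeroObject S] [HasZeroObject S'] [HasZeroObject R] [HasZeroObject R']
    [HasShift S ℤ] [HasShift S' ℤ] [HasShift R ℤ] [HasShift R' ℤ]
    [∀ n : ℤ, (shiftFunctor S n).Additive] [∀ n : ℤ, (shiftFunctor S' n).Additive]
    [∀ n : ℤ, (shiftFunctor R n).Additive] [∀ n : ℤ, (shiftFunctor R' n).Additive]
    [Pretriangulated S] [Pretriangulated S'] [Pretriangulated R] [Pretriangulated R']
    (q : W4c3perfectstacks.MVSq S S' R R')
    [q.jst.CommShift ℤ] [q.fst.CommShift ℤ] [q.jpst.CommShift ℤ] [q.gst.CommShift ℤ]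
    [q.jst.IsTriangulated] [q.fst.IsTriangulated] [q.jpst.IsTriangulated] [q.gst.IsTriangulated]

/-- In a distinguished triangle `X ⟶ M ⟶ Y` with `M = B₁ ⊕ B₂` and `B₂ ⟶ Y` invertible,
`X ⟶ B₁` is invertible. -/
theorem isIso_comp_fst {D : Type u} [Category.{v} D] [Preadditive D] [HasZeroObject D]
    [HasShift D ℤ] [∀ n : ℤ, (shiftFunctor D n).Additive] [Pretriangulated D] {X M Y B₁ B₂ : D}
    {f : X ⟶ M} {g : M ⟶ Y} {h : Y ⟶ X⟦(1 : ℤ)⟧} (hT : Triangle.mk f g h ∈ distTriang D)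
    (i₁ : B₁ ⟶ M) (i₂ : B₂ ⟶ M) (p₁ : M ⟶ B₁) (p₂ : M ⟶ B₂) (h₁ : i₁ ≫ p₁ = 𝟙 B₁)
    (h₂₁ : i₂ ≫ p₁ = 0) (htot : p₁ ≫ i₁ + p₂ ≫ i₂ = 𝟙 M) [IsIso (i₂ ≫ g)] :
    IsIso (f ≫ p₁) := by
  haveI : Epi g := epi_of_epi i₂ g
  haveI : Mono f := (Triangle.mor₃_eq_zero_iff_mono₁ _ hT).1
    ((Triangle.mor₃_eq_zero_iff_epi₂ _ hT).2 (by assumption : Epi g))
  obtain ⟨r, hr⟩ := cExact₂ hT (i₁ - (i₁ ≫ g) ≫ inv (i₂ ≫ g) ≫ i₂) (by simp)
  have h1 : r ≫ f ≫ p₁ = 𝟙 B₁ := by
    rw [← Category.assoc, ← hr]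
    simp [h₁, h₂₁]
  refine ⟨⟨r, ?_, h1⟩⟩
  rw [← cancel_mono f, ← sub_eq_zero]
  have hz1 : (((f ≫ p₁) ≫ r) ≫ f - 𝟙 X ≫ f) ≫ p₁ = 0 := by
    simp [h1]
  have hz2 : (((f ≫ p₁) ≫ r) ≫ f - 𝟙 X ≫ f) ≫ g = 0 := by
    simp [comp₁₂ hT]
  generalize hz : ((f ≫ p₁) ≫ r) ≫ f - 𝟙 X ≫ f = z at hz1 hz2
  have h3 : z = (z ≫ p₂) ≫ i₂ := by
    conv_lhs => rw [← Category.comp_id z, ← htot, Preadditive.comp_add, ← Category.assoc, hz1,
      zero_comp, zero_add, ← Category.assoc]
  have h4 : (z ≫ p₂) ≫ i₂ ≫ g = 0 := by rw [← Category.assoc, ← h3, hz2]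
  rw [← zero_comp (f := i₂ ≫ g), cancel_mono] at h4
  rw [h3, h4, zero_comp]

theorem isIso_jpst_map_unit (hq : q.IsMV) (M : S') :
    IsIso (q.jpst.map (q.adjJp.unit.app M)) := by
  haveI := hq.isIso_counitJp
  have h : q.jpst.map (q.adjJp.unit.app M) = inv (q.adjJp.counit.app (q.jpst.obj M)) :=
    IsIso.eq_inv_of_inv_hom_id (q.adjJp.left_triangle_components M)
  rw [h]
  infer_instance

/-- The glueing theorem. -/
theorem glue (hq : q.IsMV) (NU : R) (N' : S') (δ : q.jpst.obj N' ≅ q.gst.obj NU) (N : S)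
    (a : N ⟶ q.jls.obj NU ⊞ q.fls.obj N')
    (d : q.fls.obj (q.jpls.obj (q.gst.obj NU)) ⟶ N⟦(1 : ℤ)⟧)
    (hT : Triangle.mk a
      (biprod.desc (q.adjF.unit.app (q.jls.obj NU) ≫ q.fls.map (q.bc2App NU))
        (-(q.fls.map (q.adjJp.unit.app N' ≫ q.jpls.map δ.hom)))) d ∈ distTriang S) :
    IsIso ((q.adjJ.homEquiv N NU).symm (a ≫ biprod.fst)) ∧
      IsIso ((q.adjF.homEquiv N N').symm (a ≫ biprod.snd)) := by
  haveI := hq.isIso_counitJ
  haveI := hq.isIso_bc2App NU
  haveI : q.jls.Additive := q.adjJ.right_adjoint_additive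
  haveI : q.gls.Additive := q.adjG.right_adjoint_additive
  set w : N' ⟶ q.jpls.obj (q.gst.obj NU) := q.adjJp.unit.app N' ≫ q.jpls.map δ.hom with hw
  set g : q.jls.obj NU ⊞ q.fls.obj N' ⟶ q.fls.obj (q.jpls.obj (q.gst.obj NU)) :=
    biprod.desc (q.adjF.unit.app (q.jls.obj NU) ≫ q.fls.map (q.bc2App NU)) (-(q.fls.map w))
  have hTj : Triangle.mk (q.jst.map a) (q.jst.map g)
      (q.jst.map d ≫ (q.jst.commShiftIso (1 : ℤ)).hom.app N) ∈ distTriang R :=
    q.jst.map_distinguished _ hT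
  haveI hwi : IsIso (q.jpst.map w) := by
    haveI := isIso_jpst_map_unit q hq N'
    rw [hw, Functor.map_comp]
    infer_instance
  -- `j^*` of the second component is invertible
  haveI hjw : IsIso (q.jst.map (q.fls.map w)) := by
    obtain ⟨E, b, c, hE⟩ := distinguished_cocone_triangle w
    have hE0 : IsZero (q.jpst.obj E) :=
      Triangle.isZero₃_of_isIso₁ _ (q.jpst.map_distinguished _ hE) hwi
    haveI := hq.isIso_bcApp E
    have hE1 : IsZero (q.jst.obj (q.fls.obj E)) :=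
      (q.gls.map_isZero hE0).of_iso (asIso (q.bcApp E))
    exact (Triangle.isZero₃_iff_isIso₁ _
      (q.jst.map_distinguished _ (q.fls.map_distinguished _ hE))).1 hE1
  haveI hjr : IsIso (q.jst.map biprod.inr ≫ q.jst.map g) := by
    rw [← Functor.map_comp, biprod.inr_desc, Functor.map_neg]
    exact ⟨⟨-inv (q.jst.map (q.fls.map w)), by simp, by simp⟩⟩
  haveI hafst : IsIso (q.jst.map a ≫ q.jst.map biprod.fst) :=
    isIso_comp_fst hTj (q.jst.map biprod.inl) (q.jst.map biprod.inr)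
      (q.jst.map biprod.fst) (q.jst.map biprod.snd)
      (by rw [← Functor.map_comp, biprod.inl_fst, CategoryTheory.Functor.map_id])
      (by rw [← Functor.map_comp, biprod.inr_fst, Functor.map_zero])
      (by
        rw [← Functor.map_comp, ← Functor.map_comp, ← Functor.map_add, biprod.total,
          CategoryTheory.Functor.map_id])
  set p := (q.adjJ.homEquiv N NU).symm (a ≫ biprod.fst) with hp
  set r := (q.adjF.homEquiv N N').symm (a ≫ biprod.snd) with hr
  haveI hpi : IsIso p := by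
    rw [hp, Adjunction.homEquiv_counit, Functor.map_comp]
    infer_instance
  have hpe : a ≫ biprod.fst = aJ q N ≫ q.jls.map p := by
    rw [← (q.adjJ.homEquiv N NU).apply_symm_apply (a ≫ biprod.fst), ← hp, Adjunction.homEquiv_unit]
  have hre : a ≫ biprod.snd = aF q N ≫ q.fls.map r := by
    rw [← (q.adjF.homEquiv N N').apply_symm_apply (a ≫ biprod.snd), ← hr, Adjunction.homEquiv_unit]
  have hcompat : q.fst.map (aJ q N ≫ q.jls.map p) ≫ q.bc2App NU = r ≫ w := by
    apply (q.adjF.homEquiv _ _).injective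
    rw [Adjunction.homEquiv_unit, Adjunction.homEquiv_unit]
    show aF q N ≫ _ = aF q N ≫ _
    rw [q.fls.map_comp (q.fst.map (aJ q N ≫ q.jls.map p)) (q.bc2App NU), q.fls.map_comp r w,
      ← Category.assoc (aF q N), ← aF_nat', ← Category.assoc (aF q N),
      ← hre, ← hpe, ← sub_eq_zero]
    have h0 : a ≫ g = 0 := comp₁₂ hT
    rw [← h0]
    conv_rhs => rw [← Category.comp_id a, ← biprod.total]
    simp only [g, Preadditive.add_comp, Preadditive.comp_add, Category.assoc, biprod.inl_desc,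
      biprod.inr_desc, Preadditive.comp_neg, sub_eq_add_neg]
  refine ⟨hpi, ?_⟩
  haveI hjpr : IsIso (q.jpst.map r) := by
    haveI := isIso_jst_map_unit q hq N
    haveI : IsIso ((q.jst ⋙ q.gst).map (aJ q N ≫ q.jls.map p)) := by
      rw [Functor.comp_map, Functor.map_comp q.jst, Functor.map_comp q.gst]
      infer_instance
    haveI : IsIso (q.jpst.map (q.fst.map (aJ q N ≫ q.jls.map p))) :=
      (NatIso.isIso_map_iff q.e _).1 this
    haveI : IsIso (q.jpst.map r ≫ q.jpst.map w) := by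
      rw [← Functor.map_comp, ← hcompat, Functor.map_comp]
      infer_instance
    exact IsIso.of_isIso_comp_right (q.jpst.map r) (q.jpst.map w)
  -- `f_* r` is invertible
  obtain ⟨e, he⟩ := exists_triangle q hq N
  let m := biprod.map (q.jls.map p) (q.fls.map r)
  let θ := q.fls.map (q.fst.map (q.jls.map p)) ≫ q.fls.map (q.bc2App NU)
  have hl : lft q N ≫ m = 𝟙 N ≫ a := by
    rw [Category.id_comp]
    apply biprod.hom_ext
    · simp only [m, lft, Category.assoc, biprod.map_fst, biprod.lift_fst_assoc]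
      exact hpe.symm
    · simp only [m, lft, Category.assoc, biprod.map_snd, biprod.lift_snd_assoc]
      exact hre.symm
  obtain ⟨t, ht₂, ht₃⟩ : ∃ t : q.fls.obj (q.fst.obj (q.jls.obj (q.jst.obj N))) ⟶
      q.fls.obj (q.jpls.obj (q.gst.obj NU)),
      dsc q N ≫ t = m ≫ g ∧ e ≫ (shiftFunctor S (1 : ℤ)).map (𝟙 N) = t ≫ d :=
    complete_distinguished_triangle_morphism _ _ he hT (𝟙 N) m hl
  have ht : t = θ := by
    refine dsc_ext q hq N (orth_fls_jpls q _) (ht₂.trans ?_)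
    apply biprod.hom_ext'
    · simp only [m, θ, g, dsc, biprod.inl_map_assoc, biprod.inl_desc, biprod.inl_desc_assoc]
      rw [← Category.assoc, ← Category.assoc]
      exact congrArg (· ≫ q.fls.map (q.bc2App NU)) (aF_nat' q (q.jls.map p))
    · simp only [m, θ, g, dsc, biprod.inr_map_assoc, biprod.inr_desc, biprod.inr_desc_assoc,
        Preadditive.comp_neg, Preadditive.neg_comp, neg_inj, ← Functor.map_comp, ← hcompat]
      simp only [Functor.map_comp, Category.assoc]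
  haveI : IsIso θ := inferInstance
  let Φ : Triangle.mk (lft q N) (dsc q N) e ⟶ Triangle.mk a g d :=
    Triangle.homMk _ _ (𝟙 N) m θ hl (ht ▸ ht₂) (ht ▸ ht₃)
  haveI hm : IsIso m :=
    isIso₂_of_isIso₁₃ Φ he hT (inferInstanceAs (IsIso (𝟙 N))) (inferInstanceAs (IsIso θ))
  haveI hfr : IsIso (q.fls.map r) := by
    refine ⟨⟨biprod.inr ≫ inv m ≫ biprod.snd, ?_, ?_⟩⟩
    · rw [← Category.assoc, ← biprod.inr_map (q.jls.map p) (q.fls.map r), Category.assoc,
        IsIso.hom_inv_id_assoc, biprod.inr_snd]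
    · rw [Category.assoc, Category.assoc, ← biprod.map_snd (q.jls.map p) (q.fls.map r),
        IsIso.inv_hom_id_assoc, biprod.inr_snd]
  obtain ⟨E, b, c, hE⟩ := distinguished_cocone_triangle r
  have hE0 : IsZero (q.jpst.obj E) :=
    Triangle.isZero₃_of_isIso₁ _ (q.jpst.map_distinguished _ hE) hjpr
  have hE1 : IsZero (q.fls.obj E) :=
    Triangle.isZero₃_of_isIso₁ _ (q.fls.map_distinguished _ hE) hfr
  haveI := hq.isIso_counitF E hE0
  exact (Triangle.isZero₃_iff_isIso₁ _ hE).1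
    ((q.fst.map_isZero hE1).of_iso (asIso (q.adjF.counit.app E)).symm)

end Groth.MVLib
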